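import Groth.Agent.InvFld.K872.Fld
import Mathlib.Data.Matrix.Block
import Mathlib.LinearAlgebra.Matrix.Notation

/-!
# Linear actions on rational function fields
-/

set_option autoImplicit false

universe u v w

open IntermediateField

namespace K872.Diag

variable {k : Type u} [Field k]

section Lin

variable {ι : Type v} [Fintype ι] [DecidableEq ι]

/-- The linear substitution with matrix `M`. -/
noncomputable def lin (M : Matrix ι ι k) : MvPolynomial ι k →ₐ[k] MvPolynomial ι k :=
  MvPolynomial.aeval fun i => ∑ j, M i j • MvPolynomial.X j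

omit [DecidableEq ι] in
lemma lin_X (M : Matrix ι ι k) (i : ι) : lin M (MvPolynomial.X i) = ∑ j, M i j • MvPolynomial.X j := by
  rw [lin, MvPolynomial.aeval_X]

omit [DecidableEq ι] in
lemma lin_comp (M N : Matrix ι ι k) : (lin M).comp (lin N) = lin (N * M) := by
  apply MvPolynomial.algHom_ext
  intro i
  rw [AlgHom.comp_apply, lin_X, lin_X, map_sum]
  simp only [map_smul, lin_X, Matrix.mul_apply, Finset.sum_smul, Finset.smul_sum, smul_smul]
  rw [Finset.sum_comm]

lemma lin_one : lin (1 : Matrix ι ι k) = AlgHom.id k _ := by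
  apply MvPolynomial.algHom_ext
  intro i
  rw [lin_X, AlgHom.id_apply]
  simp [Matrix.one_apply]

/-- A family of matrices which is an antihomomorphism acts on the polynomial ring. -/
noncomputable def polyAut {Γ : Type w} [Group Γ] (c : Γ → Matrix ι ι k) (h1 : c 1 = 1)
    (hm : ∀ g h, c (g * h) = c h * c g) : Γ →* (MvPolynomial ι k ≃ₐ[k] MvPolynomial ι k) where
  toFun g := AlgEquiv.ofAlgHom (lin (c g)) (lin (c g⁻¹))
    (by rw [lin_comp, ← hm, mul_inv_cancel, h1, lin_one]) (by rw [lin_comp, ← hm, inv_mul_cancel, h1, lin_one])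
  map_one' := by
    apply AlgEquiv.ext
    intro a
    change lin (c 1) a = a
    rw [h1, lin_one]
    rfl
  map_mul' g h := by
    apply AlgEquiv.ext
    intro a
    change lin (c (g * h)) a = lin (c g) (lin (c h) a)
    rw [hm, ← lin_comp]
    rfl

/-- The induced action on the fraction field. -/
noncomputable def fldAut {Γ : Type w} [Group Γ] (c : Γ → Matrix ι ι k) (h1 : c 1 = 1)
    (hm : ∀ g h, c (g * h) = c h * c g) (L : Type*) [Field L] [Algebra k L] [Algebra (MvPolynomial ι k) L]
    [IsScalarTower k (MvPolynomial ι k) L] [IsFractionRing (MvPolynomial ι k) L] : Γ →* (L ≃ₐ[k] L) where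
  toFun g := IsFractionRing.algEquivOfAlgEquiv (polyAut c h1 hm g)
  map_one' := by
    apply AlgEquiv.ext
    intro z
    obtain ⟨p, q, _, rfl⟩ := IsFractionRing.div_surjective (A := MvPolynomial ι k) z
    rw [map_one, map_div₀, IsFractionRing.algEquivOfAlgEquiv_algebraMap, IsFractionRing.algEquivOfAlgEquiv_algebraMap]
    rfl
  map_mul' g h := by
    apply AlgEquiv.ext
    intro z
    obtain ⟨p, q, _, rfl⟩ := IsFractionRing.div_surjective (A := MvPolynomial ι k) z
    rw [AlgEquiv.mul_apply, map_mul, map_div₀, map_div₀, map_div₀]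
    simp only [IsFractionRing.algEquivOfAlgEquiv_algebraMap]
    rfl

lemma fldAut_X {Γ : Type w} [Group Γ] (c : Γ → Matrix ι ι k) (h1 : c 1 = 1)
    (hm : ∀ g h, c (g * h) = c h * c g) (L : Type*) [Field L] [Algebra k L] [Algebra (MvPolynomial ι k) L]
    [IsScalarTower k (MvPolynomial ι k) L] [IsFractionRing (MvPolynomial ι k) L] (g : Γ) (i : ι) :
    fldAut c h1 hm L g (algebraMap (MvPolynomial ι k) L (MvPolynomial.X i)) =
      ∑ j, c g i j • algebraMap (MvPolynomial ι k) L (MvPolynomial.X j) := by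
  change IsFractionRing.algEquivOfAlgEquiv (polyAut c h1 hm g) _ = _
  rw [IsFractionRing.algEquivOfAlgEquiv_algebraMap]
  change algebraMap (MvPolynomial ι k) L (lin (c g) _) = _
  rw [lin_X]
  change IsScalarTower.toAlgHom k (MvPolynomial ι k) L _ = _
  rw [map_sum]
  simp only [map_smul]
  rfl

/-- The matrices of a linear action. -/
theorem exists_matrix {E : Type w} [Field E] [Algebra k E] {x : ι → E} (hx : LinearIndependent k x)
    (G : Subgroup (E ≃ₐ[k] E)) (hG : ∀ σ ∈ G, ∀ i, σ (x i) ∈ Submodule.span k (Set.range x)) :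
    ∃ c : G → Matrix ι ι k, (∀ (g : G) i, (g : E ≃ₐ[k] E) (x i) = ∑ j, c g i j • x j) ∧ c 1 = 1 ∧
      ∀ g h, c (g * h) = c h * c g := by
  have h1 : ∀ (g : G) i, ∃ c : ι → k, ∑ j, c j • x j = (g : E ≃ₐ[k] E) (x i) := fun g i =>
    (Submodule.mem_span_range_iff_exists_fun k).1 (hG g g.2 i)
  choose c hc using h1
  have huniq : ∀ a b : ι → k, ∑ j, a j • x j = ∑ j, b j • x j → a = b := by
    intro a b hab
    funext j
    have h2 : ∑ j, (a j - b j) • x j = 0 := by
      simp only [sub_smul, Finset.sum_sub_distrib, hab, sub_self]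
    exact sub_eq_zero.1 (Fintype.linearIndependent_iff.1 hx _ h2 j)
  refine ⟨fun g => Matrix.of (c g), fun g i => (hc g i).symm, ?_, ?_⟩
  · funext i
    apply huniq
    change ∑ j, c 1 i j • x j = _
    rw [hc]
    simp [Matrix.one_apply]
  · intro g h
    funext i
    apply huniq
    change ∑ j, c (g * h) i j • x j = _
    rw [hc]
    change (g : E ≃ₐ[k] E) ((h : E ≃ₐ[k] E) (x i)) = _
    rw [← hc h i, map_sum]
    simp only [map_smul, ← hc g, Matrix.mul_apply, Finset.sum_smul, Finset.smul_sum, smul_smul, Matrix.of_apply]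
    rw [Finset.sum_comm]

end Lin

end K872.Diag
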