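import Groth.Agent.InvFld.K872.NoName
import Groth.Prelude.Def_W4c2brnrinvarInvFld
import Mathlib.RingTheory.AlgebraicIndependent.AlgebraicClosure
import Mathlib.RingTheory.AlgebraicIndependent.Transcendental

/-!
# Rational function fields
-/

set_option autoImplicit false

universe u v w

open IntermediateField

namespace K872.Fld

variable {k : Type u} [Field k] {ι : Type v} {κ : Type w}

theorem adjoin_frac (L : Type*) [Field L] [Algebra k L] [Algebra (MvPolynomial ι k) L]
    [IsScalarTower k (MvPolynomial ι k) L] [IsFractionRing (MvPolynomial ι k) L] :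
    adjoin k (Set.range (fun i : ι => algebraMap (MvPolynomial ι k) L (MvPolynomial.X i))) = ⊤ := by
  rw [eq_top_iff]
  intro z _
  have h : ∀ p : MvPolynomial ι k, algebraMap (MvPolynomial ι k) L p ∈
      adjoin k (Set.range (fun i : ι => algebraMap (MvPolynomial ι k) L (MvPolynomial.X i))) := by
    intro p
    induction p using MvPolynomial.induction_on with
    | C a =>
      have : algebraMap (MvPolynomial ι k) L (MvPolynomial.C a) = algebraMap k L a := by
        rw [IsScalarTower.algebraMap_apply k (MvPolynomial ι k) L]; rfl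
      rw [this]
      exact (adjoin k _).algebraMap_mem a
    | add p q hp hq => rw [map_add]; exact add_mem hp hq
    | mul_X p i hp => rw [map_mul]; exact mul_mem hp (subset_adjoin k _ ⟨i, rfl⟩)
  obtain ⟨p, q, _, rfl⟩ := IsFractionRing.div_surjective (A := MvPolynomial ι k) z
  exact div_mem (h p) (h q)

theorem adjoin_X : adjoin k (Set.range (InvFld.X : ι → InvFld.Fld ι k)) = ⊤ := adjoin_frac (InvFld.Fld ι k)

theorem algebraicIndependent_X : AlgebraicIndependent k (InvFld.X : ι → InvFld.Fld ι k) := by
  have h := MvPolynomial.algebraicIndependent_X ι k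
  exact h.map' (f := IsScalarTower.toAlgHom k (MvPolynomial ι k) (InvFld.Fld ι k))
    (IsFractionRing.injective (MvPolynomial ι k) (InvFld.Fld ι k))

/-- Algebraic independence over the field generated by the complementary variables. -/
theorem algebraicIndependent_adjoin {L : Type*} [Field L] [Algebra k L] {x : ι → L} {y : κ → L}
    (h : AlgebraicIndependent k (Sum.elim y x)) : AlgebraicIndependent (adjoin k (Set.range x)) y :=
  IntermediateField.algebraicIndependent_adjoin_iff.2 (AlgebraicIndependent.sumElim_iff.1 h).2

/-- The no-name lemma in coordinates. -/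
theorem noName' {L : Type*} [Field L] [Algebra k L] [Fintype κ] (G : Subgroup (L ≃ₐ[k] L)) [Finite G]
    {x : ι → L} {y : κ → L} (h : AlgebraicIndependent k (Sum.elim y x))
    (hgen : adjoin k (Set.range (Sum.elim y x)) = ⊤)
    (hx : ∀ σ ∈ G, ∀ i, σ (x i) ∈ Submodule.span k (Set.range x))
    (hy : ∀ σ ∈ G, ∀ i, σ (y i) ∈ Submodule.span k (Set.range y))
    (hfaith : ∀ σ ∈ G, (∀ i, σ (x i) = x i) → σ = 1) :
    ∃ t : κ → L, AlgebraicIndependent (↥(adjoin k (Set.range x) ⊓ fixedField G)) t ∧
      restrictScalars k (adjoin (↥(adjoin k (Set.range x) ⊓ fixedField G)) (Set.range t)) = fixedField G := by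
  refine NoName.noName G (adjoin k (Set.range x)) ?_ ?_ (algebraicIndependent_adjoin h) ?_ ?_
  · intro σ hσ a ha
    have h1 : adjoin k (Set.range x) ≤ (adjoin k (Set.range x)).comap (σ : L →ₐ[k] L) := by
      rw [adjoin_le_iff]
      rintro _ ⟨i, rfl⟩
      have h2 : Submodule.span k (Set.range x) ≤
          Subalgebra.toSubmodule (adjoin k (Set.range x)).toSubalgebra :=
        Submodule.span_le.2 (subset_adjoin k _)
      exact h2 (hx σ hσ i)
    exact h1 ha
  · intro σ hσ h1
    exact hfaith σ hσ fun i => h1 _ (subset_adjoin k _ ⟨i, rfl⟩)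
  · rw [eq_top_iff]
    intro z _
    set E : IntermediateField k L := adjoin k (Set.range x) with hE
    have hyN : ∀ j, y j ∈ adjoin E (Set.range y) := fun j => subset_adjoin E _ ⟨j, rfl⟩
    have hxN : ∀ i, x i ∈ adjoin E (Set.range y) := fun i =>
      (adjoin E (Set.range y)).algebraMap_mem (⟨x i, subset_adjoin k _ ⟨i, rfl⟩⟩ : E)
    clear_value E
    let N : IntermediateField k L := restrictScalars k (adjoin E (Set.range y))
    have h2 : adjoin k (Set.range (Sum.elim y x)) ≤ N := by
      rw [adjoin_le_iff]
      rintro _ ⟨i | i, rfl⟩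
      · exact hyN i
      · exact hxN i
    rw [hgen] at h2
    exact h2 (mem_top : z ∈ _)
  · intro σ hσ j
    have h3 : Submodule.span k (Set.range y) ≤
        (Submodule.span (adjoin k (Set.range x)) (Set.range y)).restrictScalars k :=
      Submodule.span_le.2 Submodule.subset_span
    exact h3 (hy σ hσ j)

end K872.Fld
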