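import Groth.Agent.InvFld.K872.Diag

/-!
# Comparison of fixed fields
-/

set_option autoImplicit false

universe u v w

open IntermediateField

namespace K872.Half

variable {k : Type u} [Field k]

/-- Homomorphisms are determined by generators. -/
theorem algHom_ext {ι : Type*} {E : Type*} [Field E] [Algebra k E] {x : ι → E} (hgen : adjoin k (Set.range x) = ⊤)
    {F : Type*} [Field F] [Algebra k F] {f g : E →ₐ[k] F} (h : ∀ i, f (x i) = g (x i)) : f = g := by
  apply AlgHom.ext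
  intro z
  have hz : z ∈ adjoin k (Set.range x) := hgen ▸ mem_top
  induction hz using adjoin_induction with
  | mem z hz => obtain ⟨i, rfl⟩ := hz; exact h i
  | algebraMap a => rw [f.commutes, g.commutes]
  | add a b _ _ ha hb => rw [map_add, map_add, ha, hb]
  | inv a _ ha => rw [map_inv₀, map_inv₀, ha]
  | mul a b _ _ ha hb => rw [map_mul, map_mul, ha, hb]

/-- Change of coefficients. -/
theorem nonempty_congr {A B : Type*} [Field A] [Field B] [Algebra k A] [Algebra k B] (e : A ≃ₐ[k] B) (κ : Type*) :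
    Nonempty (InvFld.Fld κ A ≃ₐ[k] InvFld.Fld κ B) :=
  ⟨IsFractionRing.algEquivOfAlgEquiv (MvPolynomial.mapAlgEquiv κ e)⟩

/-- The field generated by an independent family. -/
theorem nonempty_equiv_adjoin {L : Type*} [Field L] [Algebra k L] {κ : Type*} (F : IntermediateField k L) {t : κ → L}
    (h : AlgebraicIndependent F t) :
    Nonempty (InvFld.Fld κ F ≃ₐ[k] ↥(restrictScalars k (adjoin F (Set.range t)))) :=
  ⟨(h.aevalEquivField).restrictScalars k⟩

/-- One half of the comparison. -/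
theorem half {ι : Type*} {κ : Type*} [Fintype κ] {L : Type*} [Field L] [Algebra k L] {x : ι → L} {y : κ → L}
    (hind : AlgebraicIndependent k (Sum.elim y x)) (hgen : adjoin k (Set.range (Sum.elim y x)) = ⊤)
    (G' : Subgroup (L ≃ₐ[k] L)) [Finite G']
    (hx : ∀ σ ∈ G', ∀ i, σ (x i) ∈ Submodule.span k (Set.range x))
    (hy : ∀ σ ∈ G', ∀ i, σ (y i) ∈ Submodule.span k (Set.range y))
    (hfaith : ∀ σ ∈ G', (∀ i, σ (x i) = x i) → σ = 1)
    {E : Type*} [Field E] [Algebra k E] (G : Subgroup (E ≃ₐ[k] E)) (φ : E →ₐ[k] L)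
    (hφ : φ.fieldRange = adjoin k (Set.range x)) (Φ : G → (L ≃ₐ[k] L)) (hΦ : ∀ g, Φ g ∈ G')
    (hsurj : ∀ σ ∈ G', ∃ g, Φ g = σ) (hcomp : ∀ g z, Φ g (φ z) = φ ((g : E ≃ₐ[k] E) z)) :
    Nonempty (InvFld.Fld κ (fixedField G) ≃ₐ[k] fixedField G') := by
  obtain ⟨t, ht, hfix⟩ := Fld.noName' G' hind hgen hx hy hfaith
  have hF : (fixedField G).map φ = adjoin k (Set.range x) ⊓ fixedField G' := by
    ext z
    rw [IntermediateField.mem_map, IntermediateField.mem_inf, ← hφ]
    constructor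
    · rintro ⟨w, hw, rfl⟩
      refine ⟨⟨w, rfl⟩, (mem_fixedField_iff G' _).2 fun σ hσ => ?_⟩
      obtain ⟨g, rfl⟩ := hsurj σ hσ
      rw [hcomp, (mem_fixedField_iff G _).1 hw g g.2]
    · rintro ⟨⟨w, rfl⟩, hw⟩
      refine ⟨w, (mem_fixedField_iff G _).2 fun σ hσ => ?_, rfl⟩
      apply φ.injective
      exact (hcomp ⟨σ, hσ⟩ w).symm.trans ((mem_fixedField_iff G' _).1 hw _ (hΦ _))
  obtain ⟨e2⟩ := nonempty_equiv_adjoin (k := k) _ ht
  obtain ⟨e1⟩ := nonempty_congr (((fixedField G).equivMap φ).trans (IntermediateField.equivOfEq hF)) κ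
  exact ⟨(e1.trans e2).trans (IntermediateField.equivOfEq hfix)⟩

theorem aevalEquivField_X {ι : Type*} {K : Type*} [Field K] [Algebra k K] {z : ι → K}
    (hz : AlgebraicIndependent k z) (i : ι) :
    ((hz.aevalEquivField (InvFld.X i) : adjoin k (Set.range z)) : K) = z i := by
  rw [InvFld.X, AlgebraicIndependent.aevalEquivField_algebraMap_apply_coe, MvPolynomial.aeval_X]

/-- Homomorphisms out of a field generated by independent elements. -/
theorem exists_algHom {ι : Type*} {E : Type*} [Field E] [Algebra k E] {x : ι → E}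
    (hx : AlgebraicIndependent k x) (hxg : adjoin k (Set.range x) = ⊤)
    {L : Type*} [Field L] [Algebra k L] {x' : ι → L} (hx' : AlgebraicIndependent k x') :
    ∃ φ : E →ₐ[k] L, (∀ i, φ (x i) = x' i) ∧ φ.fieldRange = adjoin k (Set.range x') := by
  let e1 : E ≃ₐ[k] adjoin k (Set.range x) := (IntermediateField.topEquiv.symm).trans
    (IntermediateField.equivOfEq hxg.symm)
  let φ : E →ₐ[k] L := (adjoin k (Set.range x')).val.comp
    ((hx'.aevalEquivField.toAlgHom.comp hx.aevalEquivField.symm.toAlgHom).comp e1.toAlgHom)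
  have hφ : ∀ i, φ (x i) = x' i := by
    intro i
    have h1 : e1 (x i) = hx.aevalEquivField (InvFld.X i) := Subtype.ext (aevalEquivField_X hx i).symm
    change ((hx'.aevalEquivField (hx.aevalEquivField.symm (e1 (x i))) : adjoin k (Set.range x')) : L) = x' i
    rw [h1, AlgEquiv.symm_apply_apply, aevalEquivField_X]
  refine ⟨φ, hφ, ?_⟩
  rw [AlgHom.fieldRange_eq_map, ← hxg, IntermediateField.adjoin_map, ← Set.range_comp]
  congr 2
  funext i
  exact hφ i

/-- The comparison, inside a given big field. -/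
theorem stab_aux {ι κ : Type*} [Fintype ι] [Fintype κ] [DecidableEq ι] [DecidableEq κ]
    {E : Type*} [Field E] [Algebra k E] {F : Type*} [Field F]
    [Algebra k F] {x : ι → E} {y : κ → F} (hx : AlgebraicIndependent k x) (hy : AlgebraicIndependent k y)
    (hxg : adjoin k (Set.range x) = ⊤) (hyg : adjoin k (Set.range y) = ⊤)
    (G : Subgroup (E ≃ₐ[k] E)) [Finite G] (H : Subgroup (F ≃ₐ[k] F)) (e : G ≃* H)
    (c : G → Matrix ι ι k) (hc : ∀ (g : G) i, (g : E ≃ₐ[k] E) (x i) = ∑ j, c g i j • x j)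
    (d : H → Matrix κ κ k) (hd : ∀ (g : H) i, (g : F ≃ₐ[k] F) (y i) = ∑ j, d g i j • y j)
    {L : Type*} [Field L] [Algebra k L] (X : ι → L) (Y : κ → L)
    (hXg : adjoin k (Set.range (Sum.elim Y X)) = ⊤) (hXi : AlgebraicIndependent k (Sum.elim Y X))
    (Φ : G →* (L ≃ₐ[k] L)) (hΦX : ∀ g i, Φ g (X i) = ∑ j, c g i j • X j)
    (hΦY : ∀ g i, Φ g (Y i) = ∑ j, d (e g) i j • Y j) :
    Nonempty (InvFld.Fld κ (fixedField G) ≃ₐ[k] InvFld.Fld ι (fixedField H)) := by
  have hXi' : AlgebraicIndependent k (Sum.elim X Y) := by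
    have h := hXi.comp (Equiv.sumComm ι κ) (Equiv.injective _)
    have h2 : (Sum.elim Y X) ∘ (Equiv.sumComm ι κ) = Sum.elim X Y := by
      funext s
      rcases s with i | j <;> rfl
    rwa [h2] at h
  have hXg' : adjoin k (Set.range (Sum.elim X Y)) = ⊤ := by
    rw [← hXg]
    congr 1
    rw [Set.Sum.elim_range, Set.Sum.elim_range, Set.union_comm]
  have hXX : AlgebraicIndependent k X := hXi.comp Sum.inr Sum.inr_injective
  have hYY : AlgebraicIndependent k Y := hXi.comp Sum.inl Sum.inl_injective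
  obtain ⟨φ, hφ, hφr⟩ := exists_algHom hx hxg hXX
  obtain ⟨ψ, hψ, hψr⟩ := exists_algHom hy hyg hYY
  have hfinR : Finite Φ.range := Set.finite_range Φ
  have hcompφ : ∀ (g : G) z, Φ g (φ z) = φ ((g : E ≃ₐ[k] E) z) := by
    intro g z
    have h1 : ((Φ g : L ≃ₐ[k] L) : L →ₐ[k] L).comp φ = φ.comp ((g : E ≃ₐ[k] E) : E →ₐ[k] E) := by
      apply algHom_ext hxg
      intro i
      change Φ g (φ (x i)) = φ ((g : E ≃ₐ[k] E) (x i))
      rw [hφ, hΦX, hc, map_sum]
      simp only [map_smul, hφ]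
    exact DFunLike.congr_fun h1 z
  have hcompψ : ∀ (h : H) z, Φ (e.symm h) (ψ z) = ψ ((h : F ≃ₐ[k] F) z) := by
    intro g z
    have h1 : ((Φ (e.symm g) : L ≃ₐ[k] L) : L →ₐ[k] L).comp ψ = ψ.comp ((g : F ≃ₐ[k] F) : F →ₐ[k] F) := by
      apply algHom_ext hyg
      intro i
      change Φ (e.symm g) (ψ (y i)) = ψ ((g : F ≃ₐ[k] F) (y i))
      rw [hψ, hΦY, hd, map_sum, e.apply_symm_apply]
      simp only [map_smul, hψ]
    exact DFunLike.congr_fun h1 z
  have hx1 : ∀ σ ∈ Φ.range, ∀ i, σ (X i) ∈ Submodule.span k (Set.range X) := by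
    rintro _ ⟨g, rfl⟩ i
    rw [hΦX]
    exact Submodule.sum_mem _ fun j _ => Submodule.smul_mem _ _ (Submodule.subset_span ⟨j, rfl⟩)
  have hy1 : ∀ σ ∈ Φ.range, ∀ i, σ (Y i) ∈ Submodule.span k (Set.range Y) := by
    rintro _ ⟨g, rfl⟩ i
    rw [hΦY]
    exact Submodule.sum_mem _ fun j _ => Submodule.smul_mem _ _ (Submodule.subset_span ⟨j, rfl⟩)
  obtain ⟨e1⟩ := half hXi hXg Φ.range hx1 hy1 (by
    rintro _ ⟨g, rfl⟩ hg
    have h1 : (g : E ≃ₐ[k] E) = 1 := by
      apply AlgEquiv.ext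
      intro z
      have h2 : ((g : E ≃ₐ[k] E) : E →ₐ[k] E) = AlgHom.id k E := by
        apply algHom_ext hxg
        intro i
        apply φ.injective
        change φ ((g : E ≃ₐ[k] E) (x i)) = φ (x i)
        rw [← hcompφ, hφ]
        exact hg i
      exact DFunLike.congr_fun h2 z
    have h3 : g = 1 := Subtype.ext h1
    rw [h3, map_one]) G φ hφr Φ (fun g => ⟨g, rfl⟩) (fun σ ⟨g, hg⟩ => ⟨g, hg⟩) hcompφ
  obtain ⟨e2⟩ := half hXi' hXg' Φ.range hy1 hx1 (by
    rintro _ ⟨g, rfl⟩ hg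
    have h1 : ((e g : H) : F ≃ₐ[k] F) = 1 := by
      apply AlgEquiv.ext
      intro z
      have h2 : (((e g : H) : F ≃ₐ[k] F) : F →ₐ[k] F) = AlgHom.id k F := by
        apply algHom_ext hyg
        intro i
        apply ψ.injective
        change ψ (((e g : H) : F ≃ₐ[k] F) (y i)) = ψ (y i)
        rw [← hcompψ, hψ, e.symm_apply_apply]
        exact hg i
      exact DFunLike.congr_fun h2 z
    have h3 : e g = 1 := Subtype.ext h1
    have h4 : g = 1 := by rwa [map_eq_one_iff e e.injective] at h3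
    rw [h4, map_one]) H ψ hψr (fun h => Φ (e.symm h)) (fun g => ⟨_, rfl⟩)
      (fun σ ⟨g, hg⟩ => ⟨e g, by rw [e.symm_apply_apply, hg]⟩) hcompψ
  exact ⟨e1.trans e2.symm⟩

/-- Two faithful linear actions of the same finite group have stably equivalent fields of invariants. -/
theorem stab {ι κ : Type*} [Fintype ι] [Fintype κ] {E : Type*} [Field E] [Algebra k E] {F : Type*} [Field F]
    [Algebra k F] {x : ι → E} {y : κ → F} (hx : AlgebraicIndependent k x) (hy : AlgebraicIndependent k y)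
    (hxg : adjoin k (Set.range x) = ⊤) (hyg : adjoin k (Set.range y) = ⊤)
    (G : Subgroup (E ≃ₐ[k] E)) [Finite G] (H : Subgroup (F ≃ₐ[k] F)) (e : G ≃* H)
    (hG : ∀ σ ∈ G, ∀ i, σ (x i) ∈ Submodule.span k (Set.range x))
    (hH : ∀ σ ∈ H, ∀ i, σ (y i) ∈ Submodule.span k (Set.range y)) :
    Nonempty (InvFld.Fld κ (fixedField G) ≃ₐ[k] InvFld.Fld ι (fixedField H)) := by
  classical
  obtain ⟨c, hc, hc1, hcm⟩ := Diag.exists_matrix hx.linearIndependent G hG
  obtain ⟨d, hd, hd1, hdm⟩ := Diag.exists_matrix hy.linearIndependent H hH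
  let M : G → Matrix (ι ⊕ κ) (ι ⊕ κ) k := fun g => Matrix.fromBlocks (c g) 0 0 (d (e g))
  have hM1 : M 1 = 1 := by
    change Matrix.fromBlocks (c 1) 0 0 (d (e 1)) = 1
    rw [map_one, hc1, hd1, Matrix.fromBlocks_one]
  have hMm : ∀ g h, M (g * h) = M h * M g := by
    intro g h
    change Matrix.fromBlocks _ _ _ _ = Matrix.fromBlocks _ _ _ _ * Matrix.fromBlocks _ _ _ _
    rw [Matrix.fromBlocks_multiply, hcm, map_mul, hdm]
    simp
  have h1 : Sum.elim (fun j => (InvFld.X (Sum.inr j) : InvFld.Fld (ι ⊕ κ) k))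
      (fun i => (InvFld.X (Sum.inl i) : InvFld.Fld (ι ⊕ κ) k)) = InvFld.X ∘ (Equiv.sumComm κ ι) := by
    funext s
    rcases s with i | j <;> rfl
  refine stab_aux hx hy hxg hyg G H e c hc d hd (fun i => (InvFld.X (Sum.inl i) : InvFld.Fld (ι ⊕ κ) k))
    (fun j => (InvFld.X (Sum.inr j) : InvFld.Fld (ι ⊕ κ) k)) ?_ ?_ (Diag.fldAut M hM1 hMm _) ?_ ?_
  · rw [h1, (Equiv.sumComm κ ι).surjective.range_comp]
    exact Fld.adjoin_X
  · rw [h1]
    exact Fld.algebraicIndependent_X.comp _ (Equiv.injective _)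
  · intro g i
    refine (Diag.fldAut_X M hM1 hMm _ g (Sum.inl i)).trans ?_
    rw [Fintype.sum_sum_type]
    simp [M]
  · intro g i
    refine (Diag.fldAut_X M hM1 hMm _ g (Sum.inr i)).trans ?_
    rw [Fintype.sum_sum_type]
    simp [M]

end K872.Half
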