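import Mathlib.FieldTheory.Galois.Basic
import Mathlib.FieldTheory.Fixed
import Mathlib.FieldTheory.IntermediateField.Algebraic
import Mathlib.RingTheory.AlgebraicIndependent.Adjoin
import Mathlib.RingTheory.AlgebraicIndependent.Basic

/-!
# The no-name lemma

`G` a finite group of automorphisms of a field `L`, `K` a `G`-stable subfield on which `G` acts faithfully, `y` a finite
family algebraically independent over `K`, generating `L`, whose `K`-span is stable. Then the fixed field of `G` is purely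
transcendental over the fixed field in `K`.
-/

set_option autoImplicit false

universe u v w

open IntermediateField

namespace K872.NoName

variable {k : Type u} {L : Type v} [Field k] [Field L] [Algebra k L] (G : Subgroup (L ≃ₐ[k] L)) [Finite G]
  (K : IntermediateField k L)

/-- Speiser's lemma: the invariants of a stable subspace generate it. -/
theorem le_span_invariants (hK : ∀ σ ∈ G, ∀ a ∈ K, σ a ∈ K) (hfaith : ∀ σ ∈ G, (∀ a ∈ K, σ a = a) → σ = 1)
    (W : Submodule K L) (hW : ∀ σ ∈ G, ∀ w ∈ W, σ w ∈ W) :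
    W ≤ Submodule.span K {w | w ∈ W ∧ ∀ σ ∈ G, σ w = w} := by
  classical
  intro w hw
  by_contra hn
  obtain ⟨f, hf, hle⟩ := Submodule.exists_le_ker_of_notMem hn
  have := Fintype.ofFinite G
  let χ : G → (K →* L) := fun σ => ((σ : L ≃ₐ[k] L) : L →* L).comp (K.val : K →* L)
  have hχ : ∀ (σ : G) (a : K), χ σ a = (σ : L ≃ₐ[k] L) (a : L) := fun _ _ => rfl
  have hinj : Function.Injective χ := by
    intro σ τ h
    have h1 : (τ : L ≃ₐ[k] L)⁻¹ * (σ : L ≃ₐ[k] L) = 1 := by
      apply hfaith _ (G.mul_mem (G.inv_mem τ.2) σ.2)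
      intro a ha
      have h2 := DFunLike.congr_fun h (⟨a, ha⟩ : K)
      rw [hχ, hχ] at h2
      change (τ : L ≃ₐ[k] L)⁻¹ ((σ : L ≃ₐ[k] L) a) = a
      rw [h2]
      exact (τ : L ≃ₐ[k] L).symm_apply_apply a
    apply Subtype.ext
    exact (inv_mul_eq_one.1 h1).symm
  have hli := (linearIndependent_monoidHom K L).comp χ hinj
  rw [Fintype.linearIndependent_iff] at hli
  have h1 := hli (fun σ => ((f ((σ : L ≃ₐ[k] L) w) : K) : L)) (by
    funext a
    have hinv : (∑ σ : G, (σ : L ≃ₐ[k] L) ((a : L) * w)) ∈ {w | w ∈ W ∧ ∀ σ ∈ G, σ w = w} := by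
      refine ⟨W.sum_mem fun σ _ => hW _ σ.2 _ (W.smul_mem a hw), fun τ hτ => ?_⟩
      rw [map_sum]
      exact Fintype.sum_equiv (Equiv.mulLeft (⟨τ, hτ⟩ : G)) _ _ (fun σ => rfl)
    have h2 : f (∑ σ : G, (σ : L ≃ₐ[k] L) ((a : L) * w)) = 0 := hle (Submodule.subset_span hinv)
    rw [map_sum] at h2
    have h3 : ∀ σ : G, f ((σ : L ≃ₐ[k] L) ((a : L) * w)) =
        (⟨(σ : L ≃ₐ[k] L) (a : L), hK _ σ.2 _ a.2⟩ : K) * f ((σ : L ≃ₐ[k] L) w) := by
      intro σ
      rw [map_mul]
      exact f.map_smul (⟨(σ : L ≃ₐ[k] L) (a : L), hK _ σ.2 _ a.2⟩ : K) _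
    simp only [h3] at h2
    have h4 := congr_arg (fun z : K => (z : L)) h2
    simp only [Finset.sum_apply, Pi.smul_apply, Function.comp_apply, smul_eq_mul, Pi.zero_apply]
    push_cast at h4
    rw [← h4]
    exact Finset.sum_congr rfl fun σ _ => mul_comm _ _) 1
  apply hf
  exact Subtype.ext h1

/-- A linear change of variables preserves algebraic independence. -/
theorem algebraicIndependent_of_span {κ : Type w} [Fintype κ] {y t : κ → L} (hy : AlgebraicIndependent K y)
    (ht : LinearIndependent K t) (h1 : ∀ j, t j ∈ Submodule.span K (Set.range y))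
    (h2 : ∀ j, y j ∈ Submodule.span K (Set.range t)) : AlgebraicIndependent K t := by
  classical
  have hP : ∀ j, ∃ c : κ → K, ∑ i, c i • y i = t j := fun j => (Submodule.mem_span_range_iff_exists_fun K).1 (h1 j)
  have hQ : ∀ j, ∃ c : κ → K, ∑ i, c i • t i = y j := fun j => (Submodule.mem_span_range_iff_exists_fun K).1 (h2 j)
  choose P hP using hP
  choose Q hQ using hQ
  have hPQ : ∀ j l, ∑ i, P j i * Q i l = if l = j then 1 else 0 := by
    intro j
    have h3 : ∑ l, (∑ i, P j i * Q i l - if l = j then 1 else 0) • t l = 0 := by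
      simp only [sub_smul, Finset.sum_sub_distrib, ite_smul, one_smul, zero_smul, Finset.sum_ite_eq',
        Finset.mem_univ, if_true]
      rw [sub_eq_zero]
      simp only [Finset.sum_smul]
      rw [Finset.sum_comm]
      simp only [mul_smul, ← Finset.smul_sum, hQ, hP]
    intro l
    exact sub_eq_zero.1 (Fintype.linearIndependent_iff.1 ht _ h3 l)
  let φ : MvPolynomial κ K →ₐ[K] MvPolynomial κ K := MvPolynomial.aeval fun j => ∑ i, P j i • MvPolynomial.X i
  let ψ : MvPolynomial κ K →ₐ[K] MvPolynomial κ K := MvPolynomial.aeval fun j => ∑ i, Q j i • MvPolynomial.X i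
  have hψφ : ψ.comp φ = AlgHom.id K _ := by
    apply MvPolynomial.algHom_ext
    intro j
    simp only [AlgHom.comp_apply, φ, ψ, MvPolynomial.aeval_X, map_sum, map_smul, AlgHom.id_apply]
    simp only [Finset.smul_sum, smul_smul]
    rw [Finset.sum_comm]
    simp only [← Finset.sum_smul, hPQ, ite_smul, one_smul, zero_smul, Finset.sum_ite_eq', Finset.mem_univ, if_true]
  have hφ : Function.Injective φ := Function.LeftInverse.injective (g := ψ) fun x => DFunLike.congr_fun hψφ x
  have h4 : (MvPolynomial.aeval t : MvPolynomial κ K →ₐ[K] L) = (MvPolynomial.aeval y).comp φ := by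
    apply MvPolynomial.algHom_ext
    intro j
    simp only [AlgHom.comp_apply, φ, MvPolynomial.aeval_X, map_sum, map_smul, hP]
  rw [AlgebraicIndependent, h4]
  exact Function.Injective.comp (f := φ) hy hφ

/-- The choice of an invariant basis. -/
theorem exists_basis {κ : Type w} [Fintype κ] (hK : ∀ σ ∈ G, ∀ a ∈ K, σ a ∈ K)
    (hfaith : ∀ σ ∈ G, (∀ a ∈ K, σ a = a) → σ = 1) {y : κ → L} (hy : LinearIndependent K y)
    (hst : ∀ σ ∈ G, ∀ j, σ (y j) ∈ Submodule.span K (Set.range y)) :
    ∃ t : κ → L, (∀ j, ∀ σ ∈ G, σ (t j) = t j) ∧ LinearIndependent K t ∧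
      Submodule.span K (Set.range t) = Submodule.span K (Set.range y) := by
  classical
  set W := Submodule.span K (Set.range y) with hWdef
  have hW : ∀ σ ∈ G, ∀ w ∈ W, σ w ∈ W := by
    intro σ hσ w hw
    induction hw using Submodule.span_induction with
    | mem x hx =>
      obtain ⟨j, rfl⟩ := hx
      exact hst σ hσ j
    | zero => rw [map_zero]; exact W.zero_mem
    | add x y _ _ h1 h2 => rw [map_add]; exact W.add_mem h1 h2
    | smul a x _ h =>
      have : σ (a • x) = (⟨σ (a : L), hK σ hσ _ a.2⟩ : K) • σ x := map_mul σ (a : L) x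
      rw [this]
      exact W.smul_mem _ h
  obtain ⟨b, hb, hspan, hli⟩ := exists_linearIndependent K {w | w ∈ W ∧ ∀ σ ∈ G, σ w = w}
  have hspan' : Submodule.span K b = W := by
    rw [hspan]
    exact le_antisymm (Submodule.span_le.2 fun w hw => hw.1) (le_span_invariants G K hK hfaith W hW)
  have hfd : FiniteDimensional K W := FiniteDimensional.span_of_finite K (Set.finite_range y)
  have hfin : b.Finite := by
    have hli' : LinearIndependent K (fun w : b => (⟨w, (hb w.2).1⟩ : W)) := by
      apply LinearIndependent.of_comp W.subtype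
      exact hli
    have := hli'.finite
    exact Set.toFinite b
  have := hfin.fintype
  have hc : Fintype.card κ = Fintype.card b := by
    rw [← finrank_span_eq_card hy, ← hWdef, ← hspan', finrank_span_set_eq_card hli, Set.toFinset_card]
  let e : κ ≃ b := Fintype.equivOfCardEq hc
  refine ⟨fun j => (e j : L), fun j => (hb (e j).2).2, hli.comp e e.injective, ?_⟩
  rw [← hspan']
  congr 1
  ext z
  exact ⟨fun ⟨j, hj⟩ => hj ▸ (e j).2, fun hz => ⟨e.symm ⟨z, hz⟩, by simp⟩⟩

/-- The action on the stable subfield. -/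
@[reducible] def act (hK : ∀ σ ∈ G, ∀ a ∈ K, σ a ∈ K) : MulSemiringAction G K where
  smul σ a := ⟨(σ : L ≃ₐ[k] L) a, hK _ σ.2 _ a.2⟩
  one_smul _ := Subtype.ext rfl
  mul_smul _ _ _ := Subtype.ext rfl
  smul_zero σ := Subtype.ext (map_zero (σ : L ≃ₐ[k] L))
  smul_add σ _ _ := Subtype.ext (map_add (σ : L ≃ₐ[k] L) _ _)
  smul_one σ := Subtype.ext (map_one (σ : L ≃ₐ[k] L))
  smul_mul σ _ _ := Subtype.ext (map_mul (σ : L ≃ₐ[k] L) _ _)

/-- `[K : K^G] ≤ |G|`. -/
theorem rank_le (hK : ∀ σ ∈ G, ∀ a ∈ K, σ a ∈ K) :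
    Module.rank ↥(K ⊓ fixedField G)
      (IntermediateField.extendScalars (F := K ⊓ fixedField G) (E := K) inf_le_left) ≤ Nat.card G := by
  classical
  have := Fintype.ofFinite G
  let := act G K hK
  rw [Nat.card_eq_fintype_card]
  refine le_trans (le_of_eq ?_) (FixedPoints.rank_le_card G K)
  symm
  let i : FixedPoints.subfield G K → ↥(K ⊓ fixedField G) := fun a =>
    ⟨(a : K), (a : K).2, fun σ => congr_arg Subtype.val (a.2 σ)⟩
  refine rank_eq_of_equiv_equiv (R := FixedPoints.subfield G K) (M := K) (R' := ↥(K ⊓ fixedField G))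
    (M₁ := IntermediateField.extendScalars (F := K ⊓ fixedField G) (E := K) inf_le_left)
    i (AddEquiv.refl K) ⟨?_, ?_⟩ ?_
  · intro a b h
    exact Subtype.ext (Subtype.ext (congr_arg (fun z : ↥(K ⊓ fixedField G) => (z : L)) h))
  · intro a
    exact ⟨⟨⟨a, a.2.1⟩, fun σ => Subtype.ext (a.2.2 σ)⟩, rfl⟩
  · intro a b
    rfl

/-- The no-name lemma. -/
theorem noName {κ : Type w} [Fintype κ] (hK : ∀ σ ∈ G, ∀ a ∈ K, σ a ∈ K)
    (hfaith : ∀ σ ∈ G, (∀ a ∈ K, σ a = a) → σ = 1) {y : κ → L} (hy : AlgebraicIndependent K y)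
    (hgen : adjoin K (Set.range y) = ⊤) (hst : ∀ σ ∈ G, ∀ j, σ (y j) ∈ Submodule.span K (Set.range y)) :
    ∃ t : κ → L, AlgebraicIndependent ↥(K ⊓ fixedField G) t ∧
      restrictScalars k (adjoin ↥(K ⊓ fixedField G) (Set.range t)) = fixedField G := by
  obtain ⟨t, hfix, hli, hspan⟩ := exists_basis G K hK hfaith hy.linearIndependent hst
  have hyt : ∀ j, y j ∈ Submodule.span K (Set.range t) := fun j => hspan ▸ Submodule.subset_span ⟨j, rfl⟩
  have hai : AlgebraicIndependent K t :=
    algebraicIndependent_of_span K hy hli (fun j => hspan ▸ Submodule.subset_span ⟨j, rfl⟩) hyt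
  set F0 : IntermediateField k L := K ⊓ fixedField G with hF0
  have h0K : F0 ≤ K := inf_le_left
  let : Algebra F0 K := (IntermediateField.inclusion h0K).toRingHom.toAlgebra
  have : IsScalarTower F0 K L := IsScalarTower.of_algebraMap_eq fun _ => rfl
  refine ⟨t, hai.restrictScalars (IntermediateField.inclusion h0K).toRingHom.injective, ?_⟩
  set M : IntermediateField F0 L := adjoin F0 (Set.range t) with hM
  let K' : IntermediateField F0 L := IntermediateField.extendScalars h0K
  have hrk : Module.rank F0 K' ≤ Nat.card G := rank_le G K hK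
  have hfdK : FiniteDimensional F0 K' := by
    rw [FiniteDimensional, ← Module.rank_lt_aleph0_iff]
    exact hrk.trans_lt Cardinal.natCast_lt_aleph0
  have h1 : Module.rank M (adjoin M (K' : Set L)) ≤ Module.rank F0 K' :=
    adjoin_rank_le_of_isAlgebraic_right M K'
  have htop : adjoin M (K' : Set L) = ⊤ := by
    rw [eq_top_iff]
    intro x _
    let N : IntermediateField k L := restrictScalars k (restrictScalars F0 (adjoin M (K' : Set L)))
    have hN : ∀ z, z ∈ N ↔ z ∈ adjoin M (K' : Set L) := fun _ => Iff.rfl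
    have hKN : K ≤ N := fun z hz => (hN z).2 (subset_adjoin M _ hz)
    have htN : ∀ j, t j ∈ N := fun j => (hN _).2
      ((adjoin M (K' : Set L)).algebraMap_mem (⟨t j, subset_adjoin F0 _ ⟨j, rfl⟩⟩ : M))
    have hyN : ∀ j, y j ∈ N := by
      intro j
      obtain ⟨c, hc⟩ := (Submodule.mem_span_range_iff_exists_fun K).1 (hyt j)
      rw [← hc]
      exact N.sum_mem fun i _ => N.mul_mem (hKN (c i).2) (htN i)
    have h2 : adjoin K (Set.range y) ≤ IntermediateField.extendScalars hKN := by
      rw [adjoin_le_iff]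
      rintro _ ⟨j, rfl⟩
      exact hyN j
    rw [hgen] at h2
    exact h2 (mem_top : x ∈ _)
  rw [htop, rank_top'] at h1
  have h2 : Module.rank M L ≤ Nat.card G := h1.trans hrk
  have hfdM : FiniteDimensional M L := by
    rw [FiniteDimensional, ← Module.rank_lt_aleph0_iff]
    exact h2.trans_lt Cardinal.natCast_lt_aleph0
  have h3 : Module.finrank M L ≤ Nat.card G := by
    rw [← Module.finrank_eq_rank] at h2
    exact_mod_cast h2
  have hfd' : FiniteDimensional ↥(restrictScalars k M) L := hfdM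
  refine eq_of_le_of_finrank_le' ?_ ?_
  · intro z hz
    have h4 : M ≤ IntermediateField.extendScalars (inf_le_right : F0 ≤ fixedField G) := by
      rw [hM, adjoin_le_iff]
      rintro _ ⟨j, rfl⟩
      exact (mem_fixedField_iff G _).2 fun σ hσ => hfix j σ hσ
    exact h4 hz
  · have := Fintype.ofFinite G
    have h5 : Module.finrank ↥(fixedField G) L = Nat.card G := by
      rw [Nat.card_eq_fintype_card]
      exact FixedPoints.finrank_eq_card G L
    rw [h5]
    exact h3

end K872.NoName
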