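import Groth.Agent.InvFld.K872.Half
import Mathlib.RingTheory.MvPolynomial.Symmetric.FundamentalTheorem

/-!
# The field of symmetric rational functions, and purely transcendental extensions
-/

set_option autoImplicit false

universe u v w

open IntermediateField

namespace K872.Sym

variable {k : Type u} [Field k]

/-- `A` is a rational function field over `k`. -/
def Pure (k : Type u) [Field k] (A : Type*) [Field A] [Algebra k A] : Prop :=
  ∃ (N : ℕ) (t : Fin N → A), AlgebraicIndependent k t ∧ adjoin k (Set.range t) = ⊤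

theorem Pure.of_equiv {A B : Type*} [Field A] [Algebra k A] [Field B] [Algebra k B] (e : A ≃ₐ[k] B)
    (h : Pure k A) : Pure k B := by
  obtain ⟨N, t, h1, h2⟩ := h
  refine ⟨N, e ∘ t, h1.map' (f := e.toAlgHom) e.injective, ?_⟩
  have h3 : (adjoin k (Set.range t)).map (e : A →ₐ[k] B) = adjoin k ((e : A →ₐ[k] B) '' Set.range t) :=
    IntermediateField.adjoin_map _ _ _
  rw [h2, ← Set.range_comp] at h3
  have h4 : adjoin k (Set.range (e ∘ t)) = (⊤ : IntermediateField k A).map (e : A →ₐ[k] B) := h3.symm
  rw [h4, ← AlgHom.fieldRange_eq_map]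
  exact (e : A →ₐ[k] B).fieldRange_eq_top.2 e.surjective

theorem Pure.of_family {A : Type*} [Field A] [Algebra k A] {ι : Type*} [Finite ι] {t : ι → A}
    (h1 : AlgebraicIndependent k t) (h2 : adjoin k (Set.range t) = ⊤) : Pure k A := by
  obtain ⟨N, ⟨e⟩⟩ := Finite.exists_equiv_fin ι
  refine ⟨N, t ∘ e.symm, h1.comp _ e.symm.injective, ?_⟩
  rw [e.symm.surjective.range_comp, h2]

/-- A rational function field over a rational function field. -/
theorem Pure.fld_aux {A : Type*} [Field A] [Algebra k A] (h : Pure k A) {L : Type*} [Field L] [Algebra k L] [Algebra A L]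
    [IsScalarTower k A L] {r : ℕ} {X : Fin r → L} (h1 : AlgebraicIndependent A X)
    (h2 : adjoin A (Set.range X) = ⊤) : Pure k L := by
  obtain ⟨N, t, h3, h4⟩ := h
  refine Pure.of_family (h3.sumElim_comp h1) ?_
  rw [eq_top_iff]
  intro z _
  set M := adjoin k (Set.range (Sum.elim X (algebraMap A L ∘ t))) with hM
  have hA : ∀ a : A, algebraMap A L a ∈ M := by
    have h5 : adjoin k (Set.range t) ≤ M.comap (IsScalarTower.toAlgHom k A L) := by
      rw [adjoin_le_iff]
      rintro _ ⟨i, rfl⟩
      exact subset_adjoin k _ ⟨Sum.inr i, rfl⟩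
    rw [h4] at h5
    exact fun a => h5 (mem_top : a ∈ _)
  have hX : ∀ i, X i ∈ M := fun i => subset_adjoin k _ ⟨Sum.inl i, rfl⟩
  have hz : z ∈ adjoin A (Set.range X) := h2 ▸ mem_top
  clear_value M
  induction hz using adjoin_induction with
  | mem z hz => obtain ⟨i, rfl⟩ := hz; exact hX i
  | algebraMap a => exact hA a
  | add a b _ _ ha hb => exact M.add_mem (ha trivial) (hb trivial)
  | inv a _ ha => exact M.inv_mem (ha trivial)
  | mul a b _ _ ha hb => exact M.mul_mem (ha trivial) (hb trivial)

theorem Pure.fld {A : Type*} [Field A] [Algebra k A] (h : Pure k A) (r : ℕ) : Pure k (InvFld.Fld (Fin r) A) :=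
  Pure.fld_aux h (X := (InvFld.X : Fin r → InvFld.Fld (Fin r) A)) Fld.algebraicIndependent_X Fld.adjoin_X

theorem pure_fixedField_aux {n : ℕ} {L : Type*} [Field L] [Algebra k L] [Algebra (MvPolynomial (Fin n) k) L]
    [IsScalarTower k (MvPolynomial (Fin n) k) L] [IsFractionRing (MvPolynomial (Fin n) k) L]
    (P : Equiv.Perm (Fin n) →* (L ≃ₐ[k] L))
    (hP : ∀ σ i, P σ (algebraMap (MvPolynomial (Fin n) k) L (MvPolynomial.X i)) =
      algebraMap (MvPolynomial (Fin n) k) L (MvPolynomial.X (σ i))) :
    Pure k (fixedField P.range) := by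
  classical
  have hPp : ∀ (σ : Equiv.Perm (Fin n)) (p : MvPolynomial (Fin n) k),
      P σ (algebraMap (MvPolynomial (Fin n) k) L p) = algebraMap (MvPolynomial (Fin n) k) L (MvPolynomial.rename σ p) := by
    intro σ p
    have h1 : ((P σ : L ≃ₐ[k] L) : L →ₐ[k] L).comp (IsScalarTower.toAlgHom k (MvPolynomial (Fin n) k) L) =
        (IsScalarTower.toAlgHom k (MvPolynomial (Fin n) k) L).comp (MvPolynomial.rename σ) := by
      apply MvPolynomial.algHom_ext
      intro i
      change P σ (algebraMap (MvPolynomial (Fin n) k) L (MvPolynomial.X i)) =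
        algebraMap (MvPolynomial (Fin n) k) L (MvPolynomial.rename σ (MvPolynomial.X i))
      rw [hP, MvPolynomial.rename_X]
    exact DFunLike.congr_fun h1 p
  let s : Fin n → L := fun i => algebraMap (MvPolynomial (Fin n) k) L (MvPolynomial.esymm (Fin n) k (i + 1))
  have hmem : ∀ i, s i ∈ fixedField P.range := by
    intro i
    rw [mem_fixedField_iff]
    rintro _ ⟨σ, rfl⟩
    change P σ (algebraMap (MvPolynomial (Fin n) k) L (MvPolynomial.esymm (Fin n) k (i + 1))) = _
    rw [hPp, MvPolynomial.esymm_isSymmetric (Fin n) k (i + 1) σ]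
  have hsym : ∀ p : MvPolynomial (Fin n) k, p.IsSymmetric →
      algebraMap (MvPolynomial (Fin n) k) L p ∈ adjoin k (Set.range s) := by
    intro p hp
    obtain ⟨q, hq⟩ := (MvPolynomial.esymmAlgHom_surjective (σ := Fin n) (R := k) (n := n) (by simp)) ⟨p, hp⟩
    have h1 : (MvPolynomial.aeval (fun i : Fin n => MvPolynomial.esymm (Fin n) k (i + 1)) q : MvPolynomial (Fin n) k) = p := by
      have h2 : (Subalgebra.val _).comp (MvPolynomial.esymmAlgHom (Fin n) k n) =
          MvPolynomial.aeval (fun i : Fin n => MvPolynomial.esymm (Fin n) k (i + 1)) := by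
        apply MvPolynomial.algHom_ext
        intro i
        rw [AlgHom.comp_apply, MvPolynomial.esymmAlgHom, MvPolynomial.aeval_X, MvPolynomial.aeval_X]
        rfl
      exact (DFunLike.congr_fun h2 q).symm.trans (congr_arg Subtype.val hq)
    rw [← h1]
    have h3 : algebraMap (MvPolynomial (Fin n) k) L
        (MvPolynomial.aeval (fun i : Fin n => MvPolynomial.esymm (Fin n) k (i + 1)) q) = MvPolynomial.aeval s q := by
      have h4 : (IsScalarTower.toAlgHom k (MvPolynomial (Fin n) k) L).comp
          (MvPolynomial.aeval (fun i : Fin n => MvPolynomial.esymm (Fin n) k (i + 1))) = MvPolynomial.aeval s := by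
        apply MvPolynomial.algHom_ext
        intro i
        rw [AlgHom.comp_apply, MvPolynomial.aeval_X, MvPolynomial.aeval_X]
        rfl
      exact DFunLike.congr_fun h4 q
    rw [h3]
    have h5 : MvPolynomial.aeval s q ∈ Algebra.adjoin k (Set.range s) := by
      rw [Algebra.adjoin_range_eq_range_aeval]
      exact ⟨q, rfl⟩
    exact algebra_adjoin_le_adjoin k _ h5
  have hind : AlgebraicIndependent k s := by
    have h1 : (MvPolynomial.aeval s : MvPolynomial (Fin n) k →ₐ[k] L) =
        ((IsScalarTower.toAlgHom k (MvPolynomial (Fin n) k) L).comp (Subalgebra.val _)).comp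
          (MvPolynomial.esymmAlgHom (Fin n) k n) := by
      apply MvPolynomial.algHom_ext
      intro i
      rw [AlgHom.comp_apply, MvPolynomial.esymmAlgHom, MvPolynomial.aeval_X, MvPolynomial.aeval_X]
      rfl
    rw [AlgebraicIndependent, h1]
    exact ((IsFractionRing.injective (MvPolynomial (Fin n) k) L).comp Subtype.val_injective).comp
      (MvPolynomial.esymmAlgHom_injective (σ := Fin n) (R := k) (n := n) (by simp))
  have hadj : adjoin k (Set.range s) = fixedField P.range := by
    apply le_antisymm
    · rw [adjoin_le_iff]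
      rintro _ ⟨i, rfl⟩
      exact hmem i
    · intro z hz
      rw [mem_fixedField_iff] at hz
      obtain ⟨p, q, hq, hpq⟩ := IsFractionRing.div_surjective (A := MvPolynomial (Fin n) k) z
      let N : MvPolynomial (Fin n) k := ∏ σ : Equiv.Perm (Fin n), MvPolynomial.rename σ q
      let M : MvPolynomial (Fin n) k := p * ∏ σ ∈ Finset.univ.erase (1 : Equiv.Perm (Fin n)), MvPolynomial.rename σ q
      have hNM : N = q * ∏ σ ∈ Finset.univ.erase (1 : Equiv.Perm (Fin n)), MvPolynomial.rename σ q := by
        change ∏ σ : Equiv.Perm (Fin n), MvPolynomial.rename σ q = _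
        rw [← Finset.mul_prod_erase Finset.univ _ (Finset.mem_univ (1 : Equiv.Perm (Fin n)))]
        congr 1
        exact MvPolynomial.rename_id_apply q
      have hq0 : algebraMap (MvPolynomial (Fin n) k) L q ≠ 0 := by
        intro h
        rw [map_eq_zero_iff _ (IsFractionRing.injective (MvPolynomial (Fin n) k) L)] at h
        exact nonZeroDivisors.ne_zero hq h
      have hN0 : algebraMap (MvPolynomial (Fin n) k) L N ≠ 0 := by
        intro h
        rw [map_eq_zero_iff _ (IsFractionRing.injective (MvPolynomial (Fin n) k) L)] at h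
        obtain ⟨σ, _, hσ⟩ := Finset.prod_eq_zero_iff.1 h
        rw [map_eq_zero_iff _ (MvPolynomial.rename_injective _ σ.injective)] at hσ
        exact nonZeroDivisors.ne_zero hq hσ
      have hNs : N.IsSymmetric := by
        intro τ
        change MvPolynomial.rename τ (∏ σ : Equiv.Perm (Fin n), MvPolynomial.rename σ q) = _
        rw [map_prod]
        refine Fintype.prod_equiv (Equiv.mulLeft τ) _ _ fun σ => ?_
        rw [MvPolynomial.rename_rename]
        rfl
      have hzN : z * algebraMap (MvPolynomial (Fin n) k) L N = algebraMap (MvPolynomial (Fin n) k) L M := by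
        rw [← hpq, hNM, map_mul, ← mul_assoc, div_mul_cancel₀ _ hq0, ← map_mul]
      have hMs : M.IsSymmetric := by
        intro τ
        apply IsFractionRing.injective (MvPolynomial (Fin n) k) L
        rw [← hPp, ← hzN, map_mul, hz _ ⟨τ, rfl⟩, hPp, hNs τ]
      rw [eq_div_of_mul_eq hN0 hzN]
      exact div_mem (hsym M hMs) (hsym N hNs)
  let s' : Fin n → fixedField P.range := fun i => ⟨s i, hmem i⟩
  refine ⟨n, s', AlgebraicIndependent.of_comp (fixedField P.range).val hind, ?_⟩
  apply IntermediateField.map_injective (fixedField P.range).val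
  rw [IntermediateField.adjoin_map, ← Set.range_comp, ← AlgHom.fieldRange_eq_map, IntermediateField.fieldRange_val]
  exact hadj

theorem exists_perm (n : ℕ) (L : Type*) [Field L] [Algebra k L] [Algebra (MvPolynomial (Fin n) k) L]
    [IsScalarTower k (MvPolynomial (Fin n) k) L] [IsFractionRing (MvPolynomial (Fin n) k) L] :
    ∃ P : Equiv.Perm (Fin n) →* (L ≃ₐ[k] L), ∀ σ i, P σ (algebraMap (MvPolynomial (Fin n) k) L (MvPolynomial.X i)) =
      algebraMap (MvPolynomial (Fin n) k) L (MvPolynomial.X (σ i)) := by
  let c : Equiv.Perm (Fin n) → Matrix (Fin n) (Fin n) k := fun σ => Matrix.of fun i j => if σ i = j then 1 else 0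
  have h1 : c 1 = 1 := by
    ext i j
    simp [c, Matrix.one_apply]
  have hm : ∀ g h, c (g * h) = c h * c g := by
    intro g h
    ext i j
    simp only [c, Matrix.mul_apply, Matrix.of_apply, Equiv.Perm.mul_apply, ite_mul, one_mul, zero_mul]
    rw [Finset.sum_ite_eq]
    simp
  refine ⟨Diag.fldAut c h1 hm L, fun σ i => ?_⟩
  rw [Diag.fldAut_X]
  simp [c]

/-- Fields of invariants of linear actions of symmetric groups are stably rational. -/
theorem stablyPure {m n : ℕ} {E : Type*} [Field E] [Algebra k E] {x : Fin m → E} (hx : AlgebraicIndependent k x)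
    (hxg : adjoin k (Set.range x) = ⊤) (G : Subgroup (E ≃ₐ[k] E)) [Finite G] (e : G ≃* Equiv.Perm (Fin n))
    (hG : ∀ σ ∈ G, ∀ i, σ (x i) ∈ Submodule.span k (Set.range x))
    {L : Type*} [Field L] [Algebra k L] [Algebra (MvPolynomial (Fin n) k) L]
    [IsScalarTower k (MvPolynomial (Fin n) k) L] [IsFractionRing (MvPolynomial (Fin n) k) L]
    (hL : AlgebraicIndependent k (fun i => algebraMap (MvPolynomial (Fin n) k) L (MvPolynomial.X i))) :
    Pure k (InvFld.Fld (Fin n) (fixedField G)) := by
  obtain ⟨P, hP⟩ := exists_perm (k := k) n L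
  have hPinj : Function.Injective P := by
    rw [injective_iff_map_eq_one]
    intro σ hσ
    apply Equiv.ext
    intro i
    have h1 := hP σ i
    rw [hσ] at h1
    exact (hL.injective h1).symm
  have hH : ∀ σ ∈ P.range, ∀ i, σ (algebraMap (MvPolynomial (Fin n) k) L (MvPolynomial.X i)) ∈
      Submodule.span k (Set.range (fun i => algebraMap (MvPolynomial (Fin n) k) L (MvPolynomial.X i))) := by
    rintro _ ⟨σ, rfl⟩ i
    rw [hP]
    exact Submodule.subset_span ⟨σ i, rfl⟩
  obtain ⟨f⟩ := Half.stab hx hL hxg (Fld.adjoin_frac L) G P.range (e.trans (MonoidHom.ofInjective hPinj)) hG hH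
  exact ((pure_fixedField_aux P hP).fld m).of_equiv f.symm

end K872.Sym
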